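import Groth.Agent.Sga2lef.H100.GrFree
import Groth.Agent.FormalB.PuncAlg
import Groth.Agent.FormalB.FormalLoc
import Groth.Agent.S0822

/-!
# Algebraization of formal locally free modules on the punctured spectrum when `gr_J(A)` is free
-/

set_option autoImplicit false
universe u

open CategoryTheory CategoryTheory.Limits AlgebraicGeometry Opposite TopologicalSpace

namespace Groth.Agent.Sga2lef.H100.GrAlgebraize

open Groth.Agent.FormalB.HMod Groth.Agent.FormalB.TildeOpen Groth.Agent.FormalB.ModPow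
  Groth.Agent.FormalB.PuncSec Groth.Agent.FormalB.PrincTower Groth.Agent.FormalB.PuncAlg

variable (A : Type u) [CommRing A] (V : (Spec (CommRingCat.of A)).Opens)

theorem isIso_tV_liftQ {L N : ModuleCat.{u} A} (φ : L ⟶ N) (𝔞 : Ideal A)
    (hV : ∀ x ∈ V, ¬ 𝔞 ≤ x.asIdeal)
    (hcoker : ∃ e : ℕ, ∀ a ∈ 𝔞 ^ e, ∀ y, ∃ x : L, φ x = a • y) :
    IsIso ((tV V).map (ModuleCat.ofHom ((LinearMap.ker φ.hom).liftQ φ.hom le_rfl) :
      ModuleCat.of A (L ⧸ LinearMap.ker φ.hom) ⟶ N)) := by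
  refine isIso_tV_map V _ 𝔞 hV ?_ ?_
  · intro x hx k _
    refine ⟨0, ?_⟩
    have : x = 0 := by
      obtain ⟨x, rfl⟩ := (LinearMap.ker φ.hom).mkQ_surjective x
      have hx' : φ.hom x = 0 := hx
      rw [Submodule.mkQ_apply, Submodule.Quotient.mk_eq_zero]
      exact hx'
    rw [this, smul_zero]
  · intro y k hk
    obtain ⟨e, he⟩ := hcoker
    obtain ⟨x, hx⟩ := he (k ^ e) (Ideal.pow_mem_pow hk e) y
    exact ⟨e, (LinearMap.ker φ.hom).mkQ x, hx⟩

theorem exists_desc {L P : ModuleCat.{u} A} (K : Submodule A L) (f : L ⟶ P)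
    (h : ∀ x ∈ K, f x = 0) : ∃ ψ : ModuleCat.of A (L ⧸ K) ⟶ P, ModuleCat.ofHom K.mkQ ≫ ψ = f :=
  ⟨ModuleCat.ofHom (K.liftQ f.hom h), rfl⟩

theorem sV_map_zero {M Z : (V : Scheme.{u}).Modules} : (sV V).map (0 : M ⟶ Z) = 0 := by
  have h1 : (0 : M ⟶ Z) = 0 ≫ Formal.smulMod A Z 0 := by rw [zero_comp]
  have h2 : ModuleCat.ofHom (LinearMap.lsmul A ((sV V).obj Z) 0) = 0 := by
    rw [map_zero]
    rfl
  rw [h1, Functor.map_comp, sV_map_smulMod, h2, comp_zero]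

theorem exists_factor {L N : ModuleCat.{u} A} (φ : L ⟶ N) (𝔞 : Ideal A)
    (hV : ∀ x ∈ V, ¬ 𝔞 ≤ x.asIdeal)
    (hcoker : ∃ e : ℕ, ∀ a ∈ 𝔞 ^ e, ∀ y, ∃ x : L, φ x = a • y) {Z : (V : Scheme.{u}).Modules}
    (ψ : (tV V).obj L ⟶ Z)
    (hψ : ∀ x : L, φ x = 0 → ((adjV V).homEquiv _ _ ψ) x = 0) :
    ∃ χ : (tV V).obj N ⟶ Z, (tV V).map φ ≫ χ = ψ := by
  have h2 := isIso_tV_liftQ A V φ 𝔞 hV hcoker
  let K : Submodule A L := LinearMap.ker φ.hom
  let q : L ⟶ ModuleCat.of A (L ⧸ K) := ModuleCat.ofHom K.mkQ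
  let ι : ModuleCat.of A (L ⧸ K) ⟶ N := ModuleCat.ofHom (K.liftQ φ.hom le_rfl)
  have hφ : φ = q ≫ ι := by
    ext x
    rfl
  obtain ⟨ψ', hψ'⟩ : ∃ ψ' : ModuleCat.of A (L ⧸ K) ⟶ (sV V).obj Z,
      q ≫ ψ' = (adjV V).homEquiv _ _ ψ := exists_desc A K _ hψ
  have h2' : IsIso ((tV V).map ι) := h2
  refine ⟨inv ((tV V).map ι) ≫ ((adjV V).homEquiv _ _).symm ψ', ?_⟩
  rw [hφ, Functor.map_comp, Category.assoc, IsIso.hom_inv_id_assoc,
    ← Adjunction.homEquiv_naturality_left_symm, hψ', Equiv.symm_apply_apply]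

theorem epi_tV_map {L N : ModuleCat.{u} A} (φ : L ⟶ N) (𝔞 : Ideal A)
    (hV : ∀ x ∈ V, ¬ 𝔞 ≤ x.asIdeal)
    (hcoker : ∃ e : ℕ, ∀ a ∈ 𝔞 ^ e, ∀ y, ∃ x : L, φ x = a • y) : Epi ((tV V).map φ) := by
  have h2 := isIso_tV_liftQ A V φ 𝔞 hV hcoker
  have hl : (tV V).IsLeftAdjoint := (adjV V).isLeftAdjoint
  let K : Submodule A L := LinearMap.ker φ.hom
  have hepi : Epi (ModuleCat.ofHom K.mkQ) := by
    rw [ModuleCat.epi_iff_surjective]
    exact K.mkQ_surjective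
  have hφ : φ = ModuleCat.ofHom K.mkQ ≫ ModuleCat.ofHom (K.liftQ φ.hom le_rfl) := by
    ext x
    rfl
  have h3 : Epi ((tV V).map (ModuleCat.ofHom K.mkQ)) := inferInstance
  rw [hφ, Functor.map_comp]
  exact epi_comp _ _

variable {A}

theorem algebraize_of_tower [IsNoetherianRing A] (J : Ideal A) (𝔞 : Ideal A)
    (hV : ∀ x ∈ V, ¬ 𝔞 ≤ x.asIdeal) (hVc : IsCompact (V : Set (Spec (CommRingCat.of A))))
    (G : ℕᵒᵖ ⥤ (V : Scheme.{u}).Modules) (hG : IsFormal J G)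
    (hqc : ∀ n : ℕ, Coh.IsQCoh (G.obj (op n)))
    (M : Submodule A (∀ n, HG A G 0 n))
    (hM : ∀ x ∈ M, ∀ n, ((HM A (V : Scheme.{u}) 0).map (tr G n)).hom (x (n + 1)) = x n)
    (hfin : Module.Finite A M)
    (hker : ∀ n : ℕ, ∃ m : ℕ, n ≤ m ∧ ∀ x : M, x.1 m = 0 → x ∈ (J ^ (n + 1) • (⊤ : Submodule A M)))
    (hcoker : ∀ n : ℕ, ∃ e : ℕ, ∀ a ∈ 𝔞 ^ e, ∀ y : HG A G 0 n, ∃ z ∈ M, z n = a • y) :
    ∃ F : (V : Scheme.{u}).Modules, Coh.IsCoh F ∧ Nonempty (Formal.completion J F ≅ G) := by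
  let L : ModuleCat.{u} A := ModuleCat.of A M
  have hL : Module.Finite A L := hfin
  let pr : ∀ n, L ⟶ HG A G 0 n := fun n => ModuleCat.ofHom ((LinearMap.proj n).comp M.subtype)
  let φ : ∀ n, L ⟶ (sV V).obj (G.obj (op n)) := fun n => pr n ≫ eHom A V (G.obj (op n))
  have hφ : ∀ n (x : L), φ n x = eLin A V (G.obj (op n)) (x.1 n) := fun n x => rfl
  have hφs : ∀ n, φ (n + 1) ≫ (sV V).map (tr G n) = φ n := by
    intro n
    ext x
    change (sV V).map (tr G n) (eLin A V (G.obj (op (n + 1))) (x.1 (n + 1))) =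
      eLin A V (G.obj (op n)) (x.1 n)
    rw [← eLin_naturality]
    congr 1
    exact hM x.1 x.2 n
  let p : ∀ n, (tV V).obj L ⟶ G.obj (op n) := fun n => ((adjV V).homEquiv _ _).symm (φ n)
  have hps : ∀ n, p (n + 1) ≫ G.map (homOfLE (Nat.le_succ n)).op = p n := by
    intro n
    change ((adjV V).homEquiv _ _).symm (φ (n + 1)) ≫ tr G n = ((adjV V).homEquiv _ _).symm (φ n)
    rw [← Adjunction.homEquiv_naturality_right_symm, hφs]
  have hp : ∀ n, p n = (tV V).map (φ n) ≫ (adjV V).counit.app (G.obj (op n)) := fun n =>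
    Adjunction.homEquiv_counit _ _ _ _
  have hiso : ∀ n, IsIso ((adjV V).counit.app (G.obj (op n))) := fun n =>
    isIso_counit V hVc (G.obj (op n)) (hqc n)
  have hco : ∀ n, ∃ e : ℕ, ∀ a ∈ 𝔞 ^ e, ∀ y, ∃ x : L, φ n x = a • y := by
    intro n
    obtain ⟨e, he⟩ := hcoker n
    refine ⟨e, fun a ha y => ?_⟩
    obtain ⟨z, hz, hzn⟩ := he a ha ((eLin A V (G.obj (op n))).symm y)
    refine ⟨⟨z, hz⟩, ?_⟩
    rw [hφ]
    change eLin A V (G.obj (op n)) (z n) = a • y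
    rw [hzn, map_smul, LinearEquiv.apply_symm_apply]
  have hepi : ∀ n, Epi (p n) := by
    intro n
    have h1 := epi_tV_map A V (φ n) 𝔞 hV (hco n)
    have h2 := hiso n
    rw [hp]
    exact epi_comp _ _
  refine ⟨(tV V).obj L, isCoh_tV A V L hL, ⟨completionIso J p ?_ hps⟩⟩
  intro n
  refine ⟨hepi n, fun a ha => ?_, fun {Z} ψ hψ => ?_⟩
  · rw [smulMod_naturality, hG.killed n a ha, comp_zero]
  · obtain ⟨m, hnm, hm⟩ := hker n
    -- the adjoint of `ψ` kills `J^(n+1) L`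
    let ψ' : L ⟶ (sV V).obj Z := (adjV V).homEquiv _ _ ψ
    have h1 : ∀ a ∈ J ^ (n + 1), ∀ x : L, ψ' (a • x) = 0 := by
      intro a ha x
      have h2 : ModuleCat.ofHom (LinearMap.lsmul A L a) ≫ ψ' = 0 := by
        change ModuleCat.ofHom (LinearMap.lsmul A L a) ≫ (adjV V).homEquiv _ _ ψ = 0
        rw [← Adjunction.homEquiv_naturality_left]
        have h3 : (tV V).map (ModuleCat.ofHom (LinearMap.lsmul A L a)) ≫ ψ = 0 := by
          have h4 := hψ a ha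
          rwa [← tV_map_smul] at h4
        rw [h3, Adjunction.homEquiv_unit, sV_map_zero, comp_zero]
      exact congrArg (fun t => t.hom x) h2
    have h5 : ∀ x ∈ (J ^ (n + 1) • (⊤ : Submodule A L)), ψ' x = 0 := by
      intro x hx
      refine Submodule.smul_induction_on hx (fun a ha x _ => h1 a ha x) ?_
      intro x y hx hy
      change ψ'.hom (x + y) = 0
      rw [map_add]
      refine Eq.trans (congrArg₂ (· + ·) hx hy) (add_zero _)
    obtain ⟨χ0, hχ0⟩ := exists_factor A V (φ m) 𝔞 hV (hco m) ψ (by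
      intro x hx
      refine h5 x (hm x ?_)
      rw [hφ] at hx
      exact (eLin A V (G.obj (op m))).injective (by rw [hx, map_zero]))
    have h6 := hiso m
    let χ : G.obj (op m) ⟶ Z := inv ((adjV V).counit.app (G.obj (op m))) ≫ χ0
    have hχ : p m ≫ χ = ψ := by
      rw [hp, Category.assoc, IsIso.hom_inv_id_assoc, hχ0]
    obtain ⟨χ', hχ'⟩ := (hG.isModPow hnm).desc χ (fun a ha => by
      have := hepi m
      rw [← cancel_epi (p m), ← smulMod_naturality_assoc, hχ, hψ a ha, comp_zero])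
    refine ⟨χ', ?_⟩
    rw [← compat_of_succ p hps hnm, Category.assoc, hχ', hχ]

/-- **Algebraization on an open of `Spec A`** for `gr_J(A)` free over `A/J`. -/
theorem algebraize [IsNoetherianRing A] (J : Ideal A) [IsPrecomplete J A] (𝔞 : Ideal A)
    (hgr : ∀ n : ℕ, Module.Free (A ⧸ J) (↥(J ^ n) ⧸ (J • (⊤ : Submodule A ↥(J ^ n)))))
    (h₁ : Module.Finite A (LocCoh.H 𝔞 1 (A ⧸ J))) (h₂ : Module.Finite A (LocCoh.H 𝔞 2 (A ⧸ J)))
    (G : ℕᵒᵖ ⥤ (↑(LocCoh.puncturedOpen A 𝔞) : Scheme.{u}).Modules) (hG : Formal.IsCohFormal J G)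
    (hfree : ∀ n : ℕ, Formal2.IsFinLocFreeMod J (n + 1) (G.obj (op n))) :
    ∃ F : (↑(LocCoh.puncturedOpen A 𝔞) : Scheme.{u}).Modules, Coh.IsCoh F ∧
      Nonempty (Formal.completion J F ≅ G) := by
  obtain ⟨hcoh, hfor⟩ := (Groth.Agent.FormalB.ModPow.isCohFormal_iff _ G).1 hG
  have hU : IsCompact (LocCoh.puncturedOpen A 𝔞 : Set (Spec (CommRingCat.of A))) :=
    Groth.Agent.FormalA.InjSec.isCompact_opens _
  obtain ⟨h0, h1⟩ := Groth.Agent.S0822.finite_of_locFree 𝔞 J h₁ h₂ (G.obj (op 0)) (hcoh 0) (hfree 0)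
  have hgen := GrFree.gen (LocCoh.puncturedOpen A 𝔞) hU hgr hfor hcoh hfree
  obtain ⟨r, a, ha⟩ := Submodule.fg_iff_exists_fin_generating_family.1
    (IsNoetherian.noetherian (J : Submodule A A))
  have haJ : ∀ i, a i ∈ J := fun i => by
    have : a i ∈ Submodule.span A (Set.range a) := Submodule.subset_span ⟨i, rfl⟩
    rw [ha] at this
    exact this
  let a' : Fin r → J := fun i => ⟨a i, haJ i⟩
  have ha' : Ideal.span (Set.range fun i => (a' i : A)) = J := ha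
  let T := GrSys.tower hfor a' ha' (hgen 0) (hgen 1)
  have hprec : IsPrecomplete (Ideal.span (Set.range fun i => (a' i : A))) A := by
    rw [ha']; infer_instance
  have hP : Module.Finite A (HG A G 0 0) := h0
  have hQ : Module.Finite A ((HM A (↑(LocCoh.puncturedOpen A 𝔞) : Scheme.{u}) 1).obj
      (GrSys.K G 0)) := h1
  have hKcoh : ∀ n, Coh.IsCoh (GrSys.K G n) := by
    intro n
    cases n with
    | zero => exact hcoh 0
    | succ n =>
      have : IsLocallyNoetherian (↑(LocCoh.puncturedOpen A 𝔞) : Scheme.{u}) := inferInstance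
      exact Groth.Agent.FormalB.FormalLoc.isCoh_kernel (tr G n) (hcoh (n + 1)) (hcoh n).1
  obtain ⟨hfin, n₀, hn₀⟩ := T.finite_and_ker_le hP
  refine algebraize_of_tower (LocCoh.puncturedOpen A 𝔞) J 𝔞 (Groth.Agent.S0822.not_le 𝔞) hU G hfor
    (fun n => (hcoh n).1) T.M (fun x hx n => hx n) hfin ?_ ?_
  · intro n
    refine ⟨n₀ + n, by omega, fun x hx => ?_⟩
    have h2 := hn₀ (n + 1) x ((T.mem_F_succ (n₀ + n) x).2 hx)
    rw [ha'] at h2
    exact h2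
  · exact T.exists_pow_le hP hQ 𝔞 (fun n x => Groth.Agent.S0822.torsion_of_coh 𝔞 _ (hKcoh n) x)

end Groth.Agent.Sga2lef.H100.GrAlgebraize
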